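import Mathlib

/-! helper7: a localization of the symmetric algebra of a module is formally smooth over the
localized base as soon as the localized module is projective. -/

set_option linter.style.haveILetI false
set_option linter.unusedVariables false
set_option linter.unusedSectionVars false
set_option linter.overlappingInstances false

open TensorProduct KaehlerDifferential

namespace Groth.Agent.Helper7.SymFree

universe u

section Smooth

variable (A : Type u) [CommRing A] (N : Type u) [AddCommGroup N] [Module A N]
  (Aa : Type u) [CommRing Aa] [Algebra A Aa] (a : A) [IsLocalization.Away a Aa]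
  (T : Type u) [CommRing T] [Algebra (SymmetricAlgebra A N) T] [Algebra A T]
  [IsScalarTower A (SymmetricAlgebra A N) T]
  [IsLocalization.Away (algebraMap A (SymmetricAlgebra A N) a) T]
  [Algebra Aa T] [IsScalarTower A Aa T]
  [Module.Projective Aa (Aa ⊗[A] N)]

include a N in
/-- The localized symmetric algebra is formally smooth over the localized base when the
localized module is projective. -/
theorem formallySmooth_away : Algebra.FormallySmooth Aa T := by
  refine Algebra.FormallySmooth.of_comp_surjective ?_
  intro Q _ _ J hJ g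
  letI : Algebra A Q := ((algebraMap Aa Q).comp (algebraMap A Aa)).toAlgebra
  haveI : IsScalarTower A Aa Q := IsScalarTower.of_algebraMap_eq (fun _ => rfl)
  haveI : IsScalarTower A Aa (Q ⧸ J) := IsScalarTower.of_algebraMap_eq (fun x => by
    rw [IsScalarTower.algebraMap_apply A Q (Q ⧸ J), IsScalarTower.algebraMap_apply A Aa Q,
      ← IsScalarTower.algebraMap_apply Aa Q (Q ⧸ J)])
  let φ₀ : N →ₗ[A] Q ⧸ J :=
    (g.toLinearMap.restrictScalars A) ∘ₗ
      (IsScalarTower.toAlgHom A (SymmetricAlgebra A N) T).toLinearMap ∘ₗ SymmetricAlgebra.ι A N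
  let φ₁ : Aa ⊗[A] N →ₗ[Aa] Q ⧸ J := LinearMap.liftBaseChange Aa φ₀
  have hsurj : Function.Surjective (Ideal.Quotient.mkₐ Aa J).toLinearMap :=
    Ideal.Quotient.mk_surjective
  obtain ⟨h', hh'⟩ := Module.projective_lifting_property (Ideal.Quotient.mkₐ Aa J).toLinearMap
    φ₁ hsurj
  let h : N →ₗ[A] Q := (h'.restrictScalars A) ∘ₗ (TensorProduct.mk A Aa N 1)
  have hh : ∀ m : N, Ideal.Quotient.mk J (h m) =
      g (algebraMap (SymmetricAlgebra A N) T (SymmetricAlgebra.ι A N m)) := by
    intro m
    have := LinearMap.congr_fun hh' ((1 : Aa) ⊗ₜ[A] m)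
    simp only [LinearMap.coe_comp, Function.comp_apply, AlgHom.toLinearMap_apply,
      Ideal.Quotient.mkₐ_eq_mk, φ₁, LinearMap.liftBaseChange_tmul, one_smul] at this
    exact this
  let ψC : SymmetricAlgebra A N →ₐ[A] Q := SymmetricAlgebra.lift h
  have hunit : ∀ y : Submonoid.powers (algebraMap A (SymmetricAlgebra A N) a),
      IsUnit (ψC (y : SymmetricAlgebra A N)) := by
    rintro ⟨_, k, rfl⟩
    show IsUnit (ψC (algebraMap A (SymmetricAlgebra A N) a ^ k))
    rw [map_pow, AlgHom.commutes, IsScalarTower.algebraMap_apply A Aa Q]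
    exact ((IsLocalization.Away.algebraMap_isUnit (S := Aa) a).map (algebraMap Aa Q)).pow k
  let ψT : T →ₐ[A] Q := IsLocalization.liftAlgHom
    (M := Submonoid.powers (algebraMap A (SymmetricAlgebra A N) a)) (f := ψC) hunit
  have hψT : ∀ c : SymmetricAlgebra A N, ψT (algebraMap (SymmetricAlgebra A N) T c) = ψC c :=
    fun c => IsLocalization.lift_eq _ c
  have hcomm : ∀ x : Aa, ψT (algebraMap Aa T x) = algebraMap Aa Q x := by
    have : (ψT.toRingHom.comp (algebraMap Aa T)) = algebraMap Aa Q := by
      apply IsLocalization.ringHom_ext (Submonoid.powers a)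
      ext x
      simp only [RingHom.comp_apply, AlgHom.toRingHom_eq_coe, RingHom.coe_coe]
      rw [← IsScalarTower.algebraMap_apply A Aa T, AlgHom.commutes,
        IsScalarTower.algebraMap_apply A Aa Q]
    exact fun x => RingHom.congr_fun this x
  let ψ : T →ₐ[Aa] Q := { ψT.toRingHom with commutes' := hcomm }
  refine ⟨ψ, ?_⟩
  apply AlgHom.coe_ringHom_injective
  apply IsLocalization.ringHom_ext (Submonoid.powers (algebraMap A (SymmetricAlgebra A N) a))
  -- compare on the symmetric algebra
  have key : ((Ideal.Quotient.mkₐ A J).comp ψC) =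
      (g.restrictScalars A).comp (IsScalarTower.toAlgHom A (SymmetricAlgebra A N) T) := by
    apply SymmetricAlgebra.algHom_ext
    refine LinearMap.ext fun m => ?_
    show Ideal.Quotient.mk J (SymmetricAlgebra.lift h (SymmetricAlgebra.ι A N m)) =
      g (algebraMap _ T (SymmetricAlgebra.ι A N m))
    rw [SymmetricAlgebra.lift_ι_apply]
    exact hh m
  refine RingHom.ext fun c => ?_
  have := AlgHom.congr_fun key c
  show Ideal.Quotient.mk J (ψT (algebraMap (SymmetricAlgebra A N) T c)) =
    g (algebraMap (SymmetricAlgebra A N) T c)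
  rw [hψT]
  exact this

end Smooth

end Groth.Agent.Helper7.SymFree
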