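import Mathlib
import Groth.Agent.Lib.Helper6.SymOmega
import Groth.Agent.Lib.Helper7.SymFree.Smooth

/-! helper7: the module of absolute differentials of a localized symmetric algebra of the
conormal module is free over points of the smooth locus. -/

set_option linter.style.haveILetI false
set_option linter.unusedVariables false
set_option linter.unusedSectionVars false
set_option linter.overlappingInstances false

open TensorProduct KaehlerDifferential

namespace Groth.Agent.Helper7.SymFree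

universe u

section Free

variable (R A : Type u) [CommRing R] [CommRing A] [Algebra R A]
  (N : Type u) [AddCommGroup N] [Module A N]
  [Algebra R (SymmetricAlgebra A N)] [IsScalarTower R A (SymmetricAlgebra A N)]
  (Aa : Type u) [CommRing Aa] [Algebra A Aa] [Algebra R Aa] [IsScalarTower R A Aa]
  (a : A) [IsLocalization.Away a Aa]
  (T : Type u) [CommRing T] [Algebra (SymmetricAlgebra A N) T] [Algebra A T] [Algebra R T]
  [IsScalarTower A (SymmetricAlgebra A N) T] [IsScalarTower R A T]
  [IsLocalization.Away (algebraMap A (SymmetricAlgebra A N) a) T]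
  [Algebra Aa T] [IsScalarTower A Aa T]

include a in
/-- The relative differentials of a localized symmetric algebra. -/
theorem nonempty_kaehlerEquiv : Nonempty (Ω[T⁄A] ≃ₗ[T] T ⊗[A] N) := by
  haveI : Algebra.FormallyEtale (SymmetricAlgebra A N) T :=
    Algebra.FormallyEtale.of_isLocalization
      (Submonoid.powers (algebraMap A (SymmetricAlgebra A N) a))
  exact ⟨(KaehlerDifferential.tensorKaehlerEquivOfFormallyEtale A (SymmetricAlgebra A N) T).symm ≪≫ₗ
    (TensorProduct.AlgebraTensorModule.congr (LinearEquiv.refl T T)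
      (LinearEquiv.ofBijective (Groth.Agent.Helper6.SymOmega.L A N)
        (Groth.Agent.Helper6.SymOmega.main A N)).symm) ≪≫ₗ
    TensorProduct.AlgebraTensorModule.cancelBaseChange A (SymmetricAlgebra A N) T T N⟩

include a in
/-- The absolute differentials of a localized symmetric algebra of the conormal module are
free at points of the smooth locus. -/
theorem free_kaehler [Algebra.FormallySmooth R Aa]
    (F : Type u) [AddCommGroup F] [Module A F] [Module.Free A F]
    (e : Aa ⊗[A] F ≃ₗ[Aa] (Aa ⊗[A] N) × (Aa ⊗[A] Ω[A⁄R])) : Module.Free T Ω[T⁄R] := by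
  haveI : Module.Projective Aa (Aa ⊗[A] N) :=
    Module.Projective.of_split (e.symm.toLinearMap ∘ₗ LinearMap.inl Aa _ _)
      (LinearMap.fst Aa _ _ ∘ₗ e.toLinearMap) (by ext x; simp)
  haveI : Algebra.FormallySmooth Aa T := formallySmooth_away A N Aa a T
  haveI : Algebra.FormallyEtale A Aa := Algebra.FormallyEtale.of_isLocalization (Submonoid.powers a)
  haveI : Algebra.FormallySmooth A T := Algebra.FormallySmooth.comp A Aa T
  have hex := KaehlerDifferential.exact_mapBaseChange_map R A T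
  have hsurj := KaehlerDifferential.map_surjective R A T
  have hinj : Function.Injective (KaehlerDifferential.mapBaseChange R A T) := by
    have h1 := Algebra.H1Cotangent.exact_δ_mapBaseChange R A T
    rw [injective_iff_map_eq_zero]
    intro x hx
    obtain ⟨y, rfl⟩ := (h1 x).mp hx
    rw [Subsingleton.elim y 0, map_zero]
  obtain ⟨l, hl⟩ := Module.projective_lifting_property (KaehlerDifferential.map R A T T)
    LinearMap.id hsurj
  obtain ⟨e1, -, -⟩ := ((hex.split_tfae').out 0 2 rfl rfl).mp ⟨hinj, l, hl⟩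
  obtain ⟨eN⟩ := nonempty_kaehlerEquiv A N a T
  have c1 : T ⊗[A] Ω[A⁄R] ≃ₗ[T] T ⊗[Aa] (Aa ⊗[A] Ω[A⁄R]) :=
    (TensorProduct.AlgebraTensorModule.cancelBaseChange A Aa T T Ω[A⁄R]).symm
  have c2 : T ⊗[A] N ≃ₗ[T] T ⊗[Aa] (Aa ⊗[A] N) :=
    (TensorProduct.AlgebraTensorModule.cancelBaseChange A Aa T T N).symm
  have c3 : ((T ⊗[Aa] (Aa ⊗[A] N)) × (T ⊗[Aa] (Aa ⊗[A] Ω[A⁄R]))) ≃ₗ[T]
      T ⊗[Aa] ((Aa ⊗[A] N) × (Aa ⊗[A] Ω[A⁄R])) :=
    (TensorProduct.prodRight Aa T T _ _).symm
  have c4 : T ⊗[Aa] ((Aa ⊗[A] N) × (Aa ⊗[A] Ω[A⁄R])) ≃ₗ[T] T ⊗[Aa] (Aa ⊗[A] F) :=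
    TensorProduct.AlgebraTensorModule.congr (LinearEquiv.refl T T) e.symm
  have total : Ω[T⁄R] ≃ₗ[T] T ⊗[Aa] (Aa ⊗[A] F) :=
    e1 ≪≫ₗ LinearEquiv.prodComm T _ _ ≪≫ₗ LinearEquiv.prodCongr (eN ≪≫ₗ c2) c1 ≪≫ₗ c3 ≪≫ₗ c4
  exact Module.Free.of_equiv total.symm

end Free

end Groth.Agent.Helper7.SymFree
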