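import Mathlib

/-! helper7: localization of the conormal sequence of a finitely presented algebra at an element
of the smooth locus: the first cotangent cohomology vanishes and the sequence splits. -/

set_option linter.style.haveILetI false
set_option linter.unusedVariables false
set_option linter.unusedSectionVars false
set_option linter.overlappingInstances false

open TensorProduct KaehlerDifferential

namespace Groth.Agent.Helper7.SymFree

universe u

section Split

variable (R A : Type u) [CommRing R] [CommRing A] [Algebra R A] {n : ℕ}
  (P : Algebra.Generators R A (Fin n))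
  (Aa : Type u) [CommRing Aa] [Algebra A Aa] [Algebra R Aa] [IsScalarTower R A Aa]
  (a : A) [IsLocalization.Away a Aa] [Algebra.FormallySmooth R Aa]

include a in
/-- The first cohomology of the cotangent complex vanishes after localization at a point of the
smooth locus. -/
theorem subsingleton_tensor_h1Cotangent :
    Subsingleton (Aa ⊗[A] P.toExtension.H1Cotangent) := by
  haveI : IsLocalizedModule (Submonoid.powers a) (Algebra.H1Cotangent.map R R A Aa) :=
    Algebra.H1Cotangent.isLocalizedModule R Aa (Submonoid.powers a)
  have hbc : IsBaseChange Aa (Algebra.H1Cotangent.map R R A Aa) :=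
    IsLocalizedModule.isBaseChange (Submonoid.powers a) Aa _
  have e1 : Aa ⊗[A] Algebra.H1Cotangent R A ≃ₗ[Aa] Algebra.H1Cotangent R Aa := hbc.equiv
  have e2 : Aa ⊗[A] P.toExtension.H1Cotangent ≃ₗ[A] Aa ⊗[A] Algebra.H1Cotangent R A :=
    TensorProduct.congr (LinearEquiv.refl A Aa) P.equivH1Cotangent
  haveI : Subsingleton (Algebra.H1Cotangent R Aa) := inferInstance
  haveI : Subsingleton (Aa ⊗[A] Algebra.H1Cotangent R A) := e1.toEquiv.subsingleton
  exact e2.toEquiv.subsingleton

include a in
/-- The localized conormal sequence splits at a point of the smooth locus. -/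
theorem nonempty_split_localized :
    Nonempty (Aa ⊗[A] P.toExtension.CotangentSpace ≃ₗ[Aa]
      (Aa ⊗[A] P.toExtension.Cotangent) × (Aa ⊗[A] Ω[A⁄R])) := by
  haveI : Module.Flat A Aa := IsLocalization.flat Aa (Submonoid.powers a)
  haveI : Algebra.FormallyEtale A Aa := Algebra.FormallyEtale.of_isLocalization (Submonoid.powers a)
  haveI : Module.Projective Aa (Aa ⊗[A] Ω[A⁄R]) :=
    Module.Projective.of_equiv (KaehlerDifferential.tensorKaehlerEquivOfFormallyEtale R A Aa).symm
  set δ := P.toExtension.cotangentComplex with hδ
  set σ := P.toExtension.toKaehler with hσ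
  have hsurj : Function.Surjective σ := P.toExtension.toKaehler_surjective
  have hex : Function.Exact δ σ := P.toExtension.exact_cotangentComplex_toKaehler
  have hexa : Function.Exact (δ.baseChange Aa) (σ.baseChange Aa) := by
    have := lTensor_exact Aa hex hsurj
    intro x
    rw [LinearMap.baseChange_eq_ltensor, LinearMap.baseChange_eq_ltensor]
    exact this x
  have hsurja : Function.Surjective (σ.baseChange Aa) := by
    rw [LinearMap.baseChange_eq_ltensor]
    exact LinearMap.lTensor_surjective Aa hsurj
  have hinja : Function.Injective (δ.baseChange Aa) := by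
    rw [injective_iff_map_eq_zero]
    intro x hx
    have h1 := Module.Flat.lTensor_exact Aa (LinearMap.exact_subtype_ker_map δ)
    rw [LinearMap.baseChange_eq_ltensor] at hx
    obtain ⟨y, rfl⟩ := (h1 x).mp hx
    haveI : Subsingleton (Aa ⊗[A] LinearMap.ker δ) := subsingleton_tensor_h1Cotangent R A P Aa a
    rw [Subsingleton.elim y 0, map_zero]
  obtain ⟨l, hl⟩ := Module.projective_lifting_property (σ.baseChange Aa) LinearMap.id hsurja
  obtain ⟨e, -, -⟩ := ((hexa.split_tfae').out 0 2 rfl rfl).mp ⟨hinja, l, hl⟩
  exact ⟨e⟩

end Split

end Groth.Agent.Helper7.SymFree
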