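import Mathlib
import Groth.Agent.Lib.Helper7.SymFree.Split
import Groth.Agent.Lib.Helper7.SymFree.Free

/-! helper7: a finitely presented algebra has a finite type algebra over it, with a retraction,
whose differentials become free over the smooth locus (symmetric algebra of the conormal module). -/

set_option linter.style.haveILetI false
set_option linter.unusedVariables false
set_option linter.unusedSectionVars false
set_option linter.overlappingInstances false

open TensorProduct KaehlerDifferential

namespace Groth.Agent.Helper7.SymFree

universe u

/-- The symmetric algebra of a finite module is of finite type. -/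
theorem finiteType_symmetricAlgebra (A M : Type*) [CommRing A] [AddCommGroup M] [Module A M]
    [Module.Finite A M] : Algebra.FiniteType A (SymmetricAlgebra A M) := by
  obtain ⟨s, hs⟩ := (Module.finite_def (R := A) (M := M)).1 inferInstance
  classical
  refine ⟨⟨s.image (SymmetricAlgebra.ι A M), ?_⟩⟩
  rw [eq_top_iff]
  rintro x -
  induction x using SymmetricAlgebra.induction with
  | algebraMap r => exact Subalgebra.algebraMap_mem _ r
  | ι m =>
    have hm : m ∈ Submodule.span A (s : Set M) := by rw [hs]; trivial
    induction hm using Submodule.span_induction with
    | mem y hy =>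
      apply Algebra.subset_adjoin
      rw [Finset.coe_image]
      exact ⟨y, hy, rfl⟩
    | zero => rw [map_zero]; exact Subalgebra.zero_mem _
    | add a b _ _ ha hb => rw [map_add]; exact Subalgebra.add_mem _ ha hb
    | smul r a _ ha => rw [map_smul]; exact Subalgebra.smul_mem _ ha r
  | mul a b ha hb => exact Subalgebra.mul_mem _ ha hb
  | add a b ha hb => exact Subalgebra.add_mem _ ha hb

/-- General form: a finite module `N` and a free module `F` whose localizations over the smooth
locus split as `N ⊕ Ω`. -/
theorem exists_of_split (R A : Type u) [CommRing R] [CommRing A] [Algebra R A]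
    (N : Type u) [AddCommGroup N] [Module A N] [Module.Finite A N]
    (F : Type u) [AddCommGroup F] [Module A F] [Module.Free A F]
    (hsplit : ∀ a : A, Algebra.Smooth R (Localization.Away a) →
      Nonempty (Localization.Away a ⊗[A] F ≃ₗ[Localization.Away a]
        (Localization.Away a ⊗[A] N) × (Localization.Away a ⊗[A] Ω[A⁄R]))) :
    ∃ (C : Type u) (_ : CommRing C) (_ : Algebra A C) (_ : Algebra R C) (_ : IsScalarTower R A C),
      Algebra.FiniteType A C ∧ Nonempty (C →ₐ[A] A) ∧
      ∀ a : A, Algebra.Smooth R (Localization.Away a) →
        Module.Free (Localization.Away (algebraMap A C a))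
          Ω[Localization.Away (algebraMap A C a)⁄R] := by
  letI algRC : Algebra R (SymmetricAlgebra A N) :=
    ((algebraMap A (SymmetricAlgebra A N)).comp (algebraMap R A)).toAlgebra
  haveI tow : IsScalarTower R A (SymmetricAlgebra A N) :=
    IsScalarTower.of_algebraMap_eq (fun _ => rfl)
  refine ⟨SymmetricAlgebra A N, inferInstance, inferInstance, algRC, tow,
    finiteType_symmetricAlgebra A N, ⟨SymmetricAlgebra.algebraMapInv⟩, ?_⟩
  intro a ha
  obtain ⟨e⟩ := hsplit a ha
  haveI : Algebra.FormallySmooth R (Localization.Away a) := ha.formallySmooth
  letI algAaT : Algebra (Localization.Away a)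
      (Localization.Away (algebraMap A (SymmetricAlgebra A N) a)) :=
    (Localization.awayMap (algebraMap A (SymmetricAlgebra A N)) a).toAlgebra
  haveI : IsScalarTower A (Localization.Away a)
      (Localization.Away (algebraMap A (SymmetricAlgebra A N) a)) :=
    IsScalarTower.of_algebraMap_eq (fun x => by
      show _ = Localization.awayMap (algebraMap A (SymmetricAlgebra A N)) a (algebraMap A _ x)
      rw [Localization.awayMap, IsLocalization.Away.map, IsLocalization.map_eq]
      exact IsScalarTower.algebraMap_apply A (SymmetricAlgebra A N) _ x)
  haveI : IsScalarTower R A (Localization.Away (algebraMap A (SymmetricAlgebra A N) a)) :=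
    IsScalarTower.of_algebraMap_eq (fun x => by
      rw [IsScalarTower.algebraMap_apply R (SymmetricAlgebra A N),
        IsScalarTower.algebraMap_apply R A (SymmetricAlgebra A N),
        ← IsScalarTower.algebraMap_apply A (SymmetricAlgebra A N)])
  exact free_kaehler R A N (Localization.Away a) a
    (Localization.Away (algebraMap A (SymmetricAlgebra A N) a)) F e

/-- A finitely presented algebra admits a finite type algebra with retraction whose
differentials are free over the smooth locus. -/
theorem main {R A : Type u} [CommRing R] [CommRing A] [Algebra R A]
    [Algebra.FinitePresentation R A] :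
    ∃ (C : Type u) (_ : CommRing C) (_ : Algebra A C) (_ : Algebra R C) (_ : IsScalarTower R A C),
      Algebra.FiniteType A C ∧ Nonempty (C →ₐ[A] A) ∧
      ∀ a : A, Algebra.Smooth R (Localization.Away a) →
        Module.Free (Localization.Away (algebraMap A C a))
          Ω[Localization.Away (algebraMap A C a)⁄R] := by
  let P := (Algebra.Presentation.ofFinitePresentation R A).toGenerators
  haveI : Module.Finite A P.toExtension.Cotangent :=
    Algebra.Extension.Cotangent.finite P.fg_ker_of_finitePresentation
  haveI : Module.Free A P.toExtension.CotangentSpace := Module.Free.of_basis P.cotangentSpaceBasis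
  refine exists_of_split R A P.toExtension.Cotangent P.toExtension.CotangentSpace ?_
  intro a ha
  haveI : Algebra.FormallySmooth R (Localization.Away a) := ha.formallySmooth
  exact nonempty_split_localized R A P (Localization.Away a) a

end Groth.Agent.Helper7.SymFree
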